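import Groth.Agent.H22Alg.VolGrowth
import Groth.Agent.H22Alg.VolPush
import Groth.Agent.H22Alg.AffineImage
import Groth.Agent.H11Tilde.ModLoc
import Groth.Agent.H8Props.FieldDimFormula
import Groth.Agent.H12Pic.Bdd.Presentation
import Groth.Agent.H24GE.PushLim

/-!
# Sections of powers of an invertible module on a proper scheme

`h⁰(F ⊗ L^m) = O(m^r)` for a coherent module with support of dimension at most `r`, with no ampleness
assumption: the integral pieces are dominated by Chow covers.
-/

set_option autoImplicit false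
set_option linter.style.haveILetI false
set_option linter.unusedSectionVars false

universe u

open CategoryTheory CategoryTheory.Limits AlgebraicGeometry TopologicalSpace
open Groth.Agent.H11Ample Groth.Agent.H25Index

noncomputable section

namespace Groth.Agent.H11Big

variable (k : Type u) [Field k]

/-- A dominant morphism to an integral scheme embeds the structure sheaf in the direct image. -/
theorem mono_unitToPush {W Z : Scheme.{u}} [IsIntegral W] [IsIntegral Z] (π : W ⟶ Z)
    (hη : π (genericPoint W) = genericPoint Z) : Mono (ClSub.unitToPush π) :=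
  H11Tilde.mono_of_injective _ fun V s hs x hx => ⟨V, le_rfl, hx, by
    have h := H22Alg.AffineImage.app_injective π hη (N := V) ⟨x, hx⟩
      (a₁ := s) (a₂ := 0) (hs.trans (map_zero (π.app V).hom).symm)
    rw [h]; exact map_zero _⟩

/-- An integral proper scheme is dominated by an integral scheme of the same dimension with an ample
module. -/
theorem exists_chow_integral {Z : Scheme.{u}} [IsIntegral Z] (q : Z ⟶ Spec (CommRingCat.of k)) [IsProper q] :
    ∃ (W : Scheme.{u}) (π : W ⟶ Z) (A : W.Modules) (_ : IsIntegral W), IsProper π ∧ CohB1.IsAmple A ∧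
      π (genericPoint W) = genericPoint Z ∧ topologicalKrullDim W = topologicalKrullDim Z := by
  haveI : IsNoetherian Z := LeadChow.isNoetherian_source q
  obtain ⟨N, W, π, j, hj, hjS, hπ, -, -, hs, ⟨U, hU, hiso⟩, hred, hirr⟩ :=
    LeadChow.exists_chow_dense q NoetherianSpace.finite_irreducibleComponents
  haveI := hj; haveI := hπ; haveI := hs; haveI := hiso
  haveI : IsReduced W := hred inferInstance
  haveI : IrreducibleSpace W := hirr inferInstance
  haveI hWi : IsIntegral W := isIntegral_of_irreducibleSpace_of_isReduced W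
  haveI : IsProper (CohB1.ProjSpaceOver.toBase N (Spec (CommRingCat.of k))) :=
    H27Weil.isProper_toBase N (Spec (CommRingCat.of k))
  haveI : IsProper j := by
    haveI : IsProper (π ≫ q) := MorphismProperty.comp_mem _ _ _ inferInstance inferInstance
    haveI : IsProper (j ≫ CohB1.ProjSpaceOver.toBase N (Spec (CommRingCat.of k))) := hjS ▸ inferInstance
    exact IsProper.of_comp j (CohB1.ProjSpaceOver.toBase N (Spec (CommRingCat.of k)))
  haveI : IsClosedImmersion j := IsClosedImmersion.of_isPreimmersion j (j.isClosedMap.isClosed_range)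
  obtain ⟨M, hM⟩ := H8Props.Ample.exists_isAmple_projSpaceOver N
    (H17.LocalProj.exists_isAmple_of_isAffine (Spec (CommRingCat.of k)))
  have hη : π (genericPoint W) = genericPoint Z := by
    have h1 : IsGenericPoint (π (genericPoint W)) (closure (π '' (Set.univ : Set W))) :=
      (genericPoint_spec W).image π.continuous
    rw [Set.image_univ, π.surjective.range_eq, closure_univ] at h1
    exact h1.eq (genericPoint_spec Z)
  refine ⟨W, π, _, hWi, hπ, H11Ample.isAmple_pullback_of_isAffineHom j hM, hη, ?_⟩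
  have hηU : genericPoint Z ∈ U := ((genericPoint_spec Z).mem_open_set_iff U.isOpen).2
    (by simpa using hU.nonempty)
  haveI : Subsingleton (π.fiber (π (genericPoint W))) := by
    refine ⟨fun a b => (π.fiberι _).isEmbedding.injective ?_⟩
    have hmem : ∀ c : π.fiber (π (genericPoint W)), π.fiberι _ c ∈ π ⁻¹ᵁ U := fun c => by
      have hc : π (π.fiberι _ c) = π (genericPoint W) := (π.range_fiberι _).subset (Set.mem_range_self c)
      show π _ ∈ U
      rw [hc, hη]; exact hηU
    have h := (π ∣_ U).isOpenEmbedding.injective (a₁ := ⟨_, hmem a⟩) (a₂ := ⟨_, hmem b⟩) (Subtype.ext ?_)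
    · exact congrArg Subtype.val h
    · rw [morphismRestrict_base_coe, morphismRestrict_base_coe]
      rw [(π.range_fiberι _).subset (Set.mem_range_self a), (π.range_fiberι _).subset (Set.mem_range_self b)]
  have h0 : H8Props.FieldDim.cdim (π.asFiber (genericPoint W)) = 0 := by
    refine le_antisymm ?_ ?_
    · haveI : Subsingleton (IrreducibleCloseds (closure ({π.asFiber (genericPoint W)} : Set (π.fiber _)))) :=
        ⟨fun a b => IrreducibleCloseds.ext ((Subsingleton.eq_univ_of_nonempty a.isIrreducible.1).trans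
          (Subsingleton.eq_univ_of_nonempty b.isIrreducible.1).symm)⟩
      exact Order.krullDim_nonpos_of_subsingleton
    · haveI : Nonempty (IrreducibleCloseds (closure ({π.asFiber (genericPoint W)} : Set (π.fiber _)))) :=
        ⟨⟨_, isIrreducible_singleton.closure, isClosed_closure (s := {⟨_, subset_closure rfl⟩})⟩⟩
      exact Order.krullDim_nonneg
  have h := H8Props.FieldDim.cdim_eq_add (π ≫ q) q π rfl (genericPoint W)
  rw [h0, zero_add, hη, H28Int.Surface.cdim_genericPoint, H28Int.Surface.cdim_genericPoint] at h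
  exact h

variable {X : Scheme.{u}} [X.Over (Spec (CommRingCat.of k))] [IsProper (X ↘ Spec (CommRingCat.of k))]

/-- The structure sheaf of an integral closed subscheme grows at most like the power of its dimension. -/
theorem bdd_push_proper {r : ℕ} {Z : Scheme.{u}} (ζ : Z ⟶ X) [IsClosedImmersion ζ] [IsIntegral Z]
    (hdd : topologicalKrullDim (Set.range ζ) ≤ (r : WithBot ℕ∞)) :
    H22Alg.VolGrowth.Bdd k r ((Coh.push ζ).obj (Coh.structureModule Z)) := by
  intro L hL
  haveI := H28Int.isNoetherian k (X := X)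
  obtain ⟨W, π, A, hWi, hπ, hA, hη, hdim⟩ := exists_chow_integral k (ζ ≫ (X ↘ Spec (CommRingCat.of k)))
  haveI := hWi; haveI := hπ
  let g := π ≫ ζ
  letI : W.Over (Spec (CommRingCat.of k)) := ⟨g ≫ (X ↘ Spec (CommRingCat.of k))⟩
  haveI : IsProper (W ↘ Spec (CommRingCat.of k)) :=
    inferInstanceAs (IsProper (g ≫ (X ↘ Spec (CommRingCat.of k))))
  haveI := H28Int.isNoetherian k (X := W)
  let P := (Coh.push g).obj (Coh.structureModule W)
  have hP : Coh.IsCoh P := H24GE.isCoh_pushforward g (H10Coh.isCoh_structureModule' W)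
  have hdW : topologicalKrullDim (CohB1.support (Coh.structureModule W)) ≤ (r : WithBot ℕ∞) :=
    (Topology.IsInducing.subtypeVal.topologicalKrullDim_le).trans (hdim.le.trans
      (le_trans (le_of_eq ζ.isClosedEmbedding.isEmbedding.toHomeomorph.isHomeomorph.topologicalKrullDim_eq) hdd))
  obtain ⟨C, hC⟩ := H22Alg.VolGrowth.bdd k hA (H10Coh.isCoh_structureModule' W) hdW
    _ (H11Ample.isInvertible_pullback g hL)
  let u : (Coh.push ζ).obj (Coh.structureModule Z) ⟶ P :=
    (Scheme.Modules.pushforward ζ).map (ClSub.unitToPush π) ≫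
      (Scheme.Modules.pushforwardComp π ζ).hom.app (Coh.structureModule W)
  haveI : (Scheme.Modules.pushforward ζ).IsRightAdjoint :=
    (Scheme.Modules.pullbackPushforwardAdjunction ζ).isRightAdjoint
  haveI := mono_unitToPush π hη
  haveI : Mono ((Scheme.Modules.pushforward ζ).map (ClSub.unitToPush π)) := inferInstance
  haveI : Mono u := mono_comp _ _
  refine ⟨C, fun m => ?_⟩
  have hm := isInvertible_tensorPow hL m
  obtain ⟨f, hf⟩ := H12Pic.NumTriv.exists_mono_tensor u hm
  haveI := hf
  obtain ⟨e₁⟩ := H10Coh.Tw.nonempty_push_tensor_iso g (Coh.structureModule W) hm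
  obtain ⟨e₂⟩ := H11Ample.exists_iso_pullback_tensorPow g hL m
  refine (H22Alg.VolGrowth.hd0_le_of_mono k f (isCoh_tensor hP hm)).trans ?_
  rw [hd_congr e₁ 0, H22Alg.VolPush.hd0_push k g rfl,
    hd_congr (PicGrp.tensorModIso (Iso.refl _) e₂) 0]
  exact hC m

/-- **Growth on a proper scheme**: `h⁰(F ⊗ L^m) = O(m^r)`. -/
theorem bdd_proper {r : ℕ} {F : X.Modules} (hF : Coh.IsCoh F)
    (hdd : topologicalKrullDim (CohB1.support F) ≤ (r : WithBot ℕ∞)) : H22Alg.VolGrowth.Bdd k r F := by
  haveI := H28Int.isNoetherian k (X := X)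
  refine (LeadDev.devissage_induction (CohB1.support F) (fun G => Coh.IsCoh G → H22Alg.VolGrowth.Bdd k r G) ?_ ?_ ?_ ?_
    F hF le_rfl) hF
  · rintro M N ⟨e⟩ h hN L hL
    obtain ⟨C, hC⟩ := h (H10Coh.isCoh_of_iso e.symm hN) L hL
    exact ⟨C, fun m => (hd_congr (PicGrp.tensorModIso e (Iso.refl _)) 0).ge.trans (hC m)⟩
  · intro M hM _ L _
    exact ⟨0, fun m => (H22Alg.VolGrowth.hd0_of_isZero k (H12Pic.NumTriv.isZero_tensor hM _)).le.trans (Nat.zero_le _)⟩
  · intro S hS h₁ h₂ h₃ hb₁ hb₃ _ L hL
    obtain ⟨C₁, hC₁⟩ := hb₁ h₁ L hL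
    obtain ⟨C₃, hC₃⟩ := hb₃ h₃ L hL
    refine ⟨C₁ + C₃, fun m => ?_⟩
    have hm := isInvertible_tensorPow hL m
    refine (H22Alg.VolGrowth.hd0_le_add k (H10Coh.Tw.shortExact_seq hS hm) (isCoh_tensor h₁ hm) (isCoh_tensor h₂ hm)
      (isCoh_tensor h₃ hm)).trans ?_
    rw [Nat.add_mul]
    exact Nat.add_le_add (hC₁ m) (hC₃ m)
  · intro Z ζ _ _ hr _ I ι _ _ _ L hL
    obtain ⟨C, hC⟩ := bdd_push_proper k ζ ((H28Int.dim_le_of_subset hr).trans hdd) L hL
    refine ⟨C, fun m => ?_⟩
    obtain ⟨f, hf⟩ := H12Pic.NumTriv.exists_mono_tensor ((Coh.push ζ).map ι) (isInvertible_tensorPow hL m)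
    haveI := hf
    exact (H22Alg.VolGrowth.hd0_le_of_mono k f
      (isCoh_tensor (LeadDev.isCoh_push_structure ζ) (isInvertible_tensorPow hL m))).trans (hC m)

end Groth.Agent.H11Big
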