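import Groth.Agent.H22Alg.VolBig
import Groth.Agent.H11Big.ProperBdd

/-!
# Kodaira's lemma in its various forms

Growth of sections of powers, monomorphisms from ample modules, sections of twists by inverses of
ample modules; bigness for proper schemes and birational morphisms.
-/

set_option autoImplicit false
set_option linter.style.haveILetI false
set_option linter.unusedSectionVars false

universe u

open CategoryTheory CategoryTheory.Limits AlgebraicGeometry TopologicalSpace Filter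
open Groth.Agent.H11Ample Groth.Agent.H25Index
open Groth.Agent.H22Alg
open scoped ENNReal

noncomputable section

namespace Groth.Agent.H11Big

/-- A lower bound at arbitrarily large exponents makes the upper limit positive. -/
theorem vol_pos_of_frequently {d : ℕ} {f : ℕ → ℕ} (K : ℕ) (h : ∃ᶠ m in atTop, m ^ d ≤ K * f m) :
    0 < VolLimsup.vol d f := by
  have hpos : (0 : ℝ≥0∞) < ((K + 1 : ℕ) : ℝ≥0∞)⁻¹ := ENNReal.inv_pos.2 (ENNReal.natCast_ne_top _)
  refine lt_of_lt_of_le hpos (le_limsup_of_frequently_le ?_ (by isBoundedDefault))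
  refine (h.and_eventually (eventually_ge_atTop 1)).mono fun m hm => ?_
  obtain ⟨hm, hm1⟩ := hm
  have hm0 : ((m : ℕ) : ℝ≥0∞) ^ d ≠ 0 := pow_ne_zero _ (Nat.cast_ne_zero.2 (by omega))
  rw [ENNReal.le_div_iff_mul_le (Or.inl hm0) (Or.inl (ENNReal.pow_ne_top (ENNReal.natCast_ne_top m))),
    ENNReal.inv_mul_le_iff (Nat.cast_ne_zero.2 (Nat.succ_ne_zero K)) (ENNReal.natCast_ne_top _)]
  exact_mod_cast hm.trans (Nat.mul_le_mul_right _ (Nat.le_succ K))

/-- A lower bound on the multiples of `ν` suffices. -/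
theorem vol_pos_of_multiples {d : ℕ} {f : ℕ → ℕ} {ν a : ℕ} (hν : 0 < ν)
    (h : ∀ μ, 1 ≤ μ → μ ^ d ≤ a * f (ν * μ)) : 0 < VolLimsup.vol d f := by
  refine vol_pos_of_frequently (ν ^ d * a) (frequently_atTop.2 fun N => ⟨ν * (N + 1), ?_, ?_⟩)
  · exact (Nat.le_succ N).trans (Nat.le_mul_of_pos_left _ hν)
  · rw [mul_pow, Nat.mul_assoc]
    exact Nat.mul_le_mul_left _ (h (N + 1) (Nat.succ_pos N))

/-- A strict real lower bound makes the upper limit positive. -/
theorem vol_pos_of_real {d : ℕ} {f : ℕ → ℕ} {c : ℝ} (hc : 0 < c)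
    (h : ∀ᶠ m : ℕ in atTop, c * (m : ℝ) ^ d ≤ (f m : ℝ)) : 0 < VolLimsup.vol d f := by
  obtain ⟨K, hK⟩ := exists_nat_ge (1 / c)
  refine vol_pos_of_frequently K (Eventually.frequently ?_)
  filter_upwards [h] with m hm
  have h1 : (m : ℝ) ^ d ≤ (K : ℝ) * (f m : ℝ) :=
    calc (m : ℝ) ^ d = (1 / c) * (c * (m : ℝ) ^ d) := by field_simp
      _ ≤ (1 / c) * (f m : ℝ) := mul_le_mul_of_nonneg_left hm (by positivity)
      _ ≤ (K : ℝ) * (f m : ℝ) := mul_le_mul_of_nonneg_right hK (Nat.cast_nonneg _)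
  exact_mod_cast h1

/-- An integral lower bound gives a strict real one. -/
theorem exists_real_of_nat {d : ℕ} {f : ℕ → ℕ} {K : ℕ} (h : ∀ᶠ m : ℕ in atTop, m ^ d ≤ K * f m) :
    ∃ c : ℝ, 0 < c ∧ ∀ᶠ m : ℕ in atTop, c * (m : ℝ) ^ d < (f m : ℝ) := by
  refine ⟨1 / (K + 1), by positivity, ?_⟩
  filter_upwards [h, eventually_ge_atTop 1] with m hm hm1
  have hpos : 0 < f m := by
    rcases Nat.eq_zero_or_pos (f m) with h0 | h0
    · rw [h0, Nat.mul_zero] at hm
      exact absurd hm (Nat.not_le.2 (Nat.pow_pos hm1))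
    · exact h0
  have h1 : (m : ℝ) ^ d ≤ (K : ℝ) * (f m : ℝ) := by exact_mod_cast hm
  have h2 : (0 : ℝ) < f m := by exact_mod_cast hpos
  rw [div_mul_eq_mul_div, one_mul, div_lt_iff₀ (by positivity)]
  nlinarith

variable (k : Type u) [Field k] {X : Scheme.{u}} [X.Over (Spec (CommRingCat.of k))]
  [IsProper (X ↘ Spec (CommRingCat.of k))]

omit k [Field k] [X.Over (Spec (CommRingCat.of k))] [IsProper (X ↘ Spec (CommRingCat.of k))] in
/-- An inverse of an invertible module is invertible. -/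
theorem isInvertible_of_isInverseOf {A A' : X.Modules} (hA : PicF.IsInvertible A)
    (h : ClSub.IsInverseOf A' A) : PicF.IsInvertible A' := by
  obtain ⟨A'', hA'', ⟨e⟩⟩ := H29RR.exists_inverse_comm hA
  obtain ⟨e'⟩ := h
  refine H11Tilde.isInvertible_of_iso ((H10Coh.Tw.leftUnitIso A'').symm ≪≫
    PicGrp.tensorModIso e'.symm (Iso.refl A'') ≪≫ H10Coh.Tw.assoc A' A A'' ≪≫
    PicGrp.tensorModIso (Iso.refl A') e ≪≫ H10Coh.Tw.commIso A' _ ≪≫ H10Coh.Tw.leftUnitIso A') hA''

theorem nontrivial_of_pos {M : X.Modules} (h : 0 < hd k M 0) : Nontrivial (Coh.HH X M 0) :=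
  Module.nontrivial_of_finrank_pos h

theorem pos_of_nontrivial {M : X.Modules} (hM : Coh.IsCoh M) (h : Nontrivial (Coh.HH X M 0)) : 0 < hd k M 0 := by
  haveI := H28Int.isNoetherian k (X := X)
  haveI := finite_HH (k := k) M hM 0
  haveI := h
  exact Module.finrank_pos

/-- An effective module grows at most linearly in any proper scheme: dimension zero case included. -/
theorem bdd_of_dim_lt {d : ℕ} {F : X.Modules} (hF : Coh.IsCoh F)
    (hlt : topologicalKrullDim (CohB1.support F) < (d : WithBot ℕ∞)) : VolGrowth.Small k d F := by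
  intro L hL
  rcases d with _ | r
  · have hz : IsZero F := by
      by_contra hne
      haveI := (H25Euler.support_nonempty hne).to_subtype
      exact not_le.2 hlt (by
        haveI : Nonempty (IrreducibleCloseds (CohB1.support F)) :=
          ⟨⟨_, isIrreducible_singleton.closure, isClosed_closure (s := {Classical.arbitrary (CohB1.support F)})⟩⟩
        rw [Nat.cast_zero]; exact Order.krullDim_nonneg)
    exact ⟨0, fun m => (VolGrowth.hd0_of_isZero k (H12Pic.NumTriv.isZero_tensor hz _)).le.trans (Nat.zero_le _)⟩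
  · obtain ⟨C, hC⟩ := bdd_proper k hF ((H12Pic.NumTriv.lt_succ_iff' _ r).1 hlt) L hL
    exact ⟨C, fun m => (hC m).trans (Nat.mul_le_mul_left C (VolGrowth.pow_le_sub m r))⟩

/-- Sections vanishing on a smaller closed subscheme. -/
theorem exists_sections_of_quot {d : ℕ} {L : X.Modules} (hL : PicF.IsInvertible L)
    {S : ShortComplex X.Modules} (hS : S.ShortExact) (h₁ : Coh.IsCoh S.X₁) (h₂ : Coh.IsCoh S.X₂)
    (h₃ : Coh.IsCoh S.X₃) (e : S.X₂ ≅ Coh.structureModule X)
    (hlt : topologicalKrullDim (CohB1.support S.X₃) < (d : WithBot ℕ∞))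
    (hvol : 0 < VolLimsup.vol d fun m => hd k (CohB1.tensorPow L m) 0) :
    ∃ m : ℕ, 0 < m ∧ 0 < hd k (CohB1.tensorMod S.X₁ (CohB1.tensorPow L m)) 0 := by
  obtain ⟨C, hC⟩ := bdd_of_dim_lt k h₃ hlt L hL
  by_contra hne
  push Not at hne
  have hle : VolLimsup.vol d (fun m => hd k (CohB1.tensorPow L m) 0) ≤ VolLimsup.vol d fun _ => 0 := by
    refine VolLimsup.vol_le_of_le C ?_
    filter_upwards [eventually_ge_atTop 1] with m hm
    have h0 := Nat.le_zero.1 (hne m hm)
    have hm' := isInvertible_tensorPow hL m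
    have h := VolGrowth.hd0_le_add k (H10Coh.Tw.shortExact_seq hS hm') (isCoh_tensor h₁ hm')
      (isCoh_tensor h₂ hm') (isCoh_tensor h₃ hm')
    have h' : hd k (CohB1.tensorMod S.X₂ (CohB1.tensorPow L m)) 0 ≤
        hd k (CohB1.tensorMod S.X₁ (CohB1.tensorPow L m)) 0 +
          hd k (CohB1.tensorMod S.X₃ (CohB1.tensorPow L m)) 0 := h
    rw [h0, Nat.zero_add, hd_congr (PicGrp.tensorModIso e (Iso.refl _) ≪≫ H10Coh.Tw.leftUnitIso _) 0] at h'
    rw [Nat.zero_add]
    exact h'.trans (hC m)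
  simp [VolLimsup.vol] at hle
  exact absurd hle hvol.ne'

section Integral

variable [IsIntegral X]

/-- A monomorphism of invertible modules is an effective twist. -/
theorem exists_eff_of_mono {A M : X.Modules} (hA : PicF.IsInvertible A) (hM : PicF.IsInvertible M)
    (φ : A ⟶ M) [Mono φ] : ∃ E : X.Modules, PicF.IsInvertible E ∧ 0 < hd k E 0 ∧
      Nonempty (CohB1.tensorMod A E ≅ M) := by
  haveI := H28Int.isNoetherian k (X := X)
  obtain ⟨A', hA', ⟨e⟩⟩ := H29RR.exists_inverse_comm hA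
  obtain ⟨f, hf⟩ := H12Pic.NumTriv.exists_mono_tensor φ hA'
  haveI := hf
  refine ⟨CohB1.tensorMod M A', isInvertible_tensor hM hA', ?_, ⟨H10Coh.Tw.commIso A _ ≪≫
    H10Coh.Tw.assoc M A' A ≪≫ PicGrp.tensorModIso (Iso.refl M) (H10Coh.Tw.commIso A' A ≪≫ e) ≪≫
    H10Coh.Tw.commIso M _ ≪≫ H10Coh.Tw.leftUnitIso M⟩⟩
  exact ((VolBig.hd0_structure_pos k).trans_le (hd_congr e.symm 0).le).trans_le
    (VolGrowth.hd0_le_of_mono k f (isCoh_of_isInvertible (isInvertible_tensor hM hA')))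

/-- An effective twist is a monomorphism. -/
theorem exists_mono_of_eff {A E : X.Modules} (hA : PicF.IsInvertible A) (hE : PicF.IsInvertible E)
    (h : 0 < hd k E 0) {M : X.Modules} (e : CohB1.tensorMod A E ≅ M) : ∃ φ : A ⟶ M, Mono φ := by
  haveI := H28Int.isNoetherian k (X := X)
  obtain ⟨g, hg⟩ := VolBig.exists_ne_zero_of_pos k h
  haveI := (H29RR.mono_homOfGlobal hE hg).1
  obtain ⟨f, hf⟩ := H12Pic.NumTriv.exists_mono_tensor (H11Tilde.homOfGlobal E g) hA
  haveI := hf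
  exact ⟨(H10Coh.Tw.leftUnitIso A).inv ≫ f ≫ (H10Coh.Tw.commIso E A ≪≫ e).hom, inferInstance⟩

variable {H : X.Modules} (hH : CohB1.IsAmple H) {d : ℕ} (hdim : topologicalKrullDim X = d)
include hH hdim

/-- An ample twist inside a power gives the growth on all multiples. -/
theorem growth_of_eff {L A E : X.Modules} (hA : CohB1.IsAmple A)
    (hE : PicF.IsInvertible E) (hEpos : 0 < hd k E 0) {a : ℕ} (ha : 0 < a)
    (e : CohB1.tensorMod A E ≅ CohB1.tensorPow L a) :
    ∃ ν K : ℕ, 0 < ν ∧ 0 < K ∧ ∀ μ : ℕ, 1 ≤ μ → μ ^ d ≤ K * hd k (CohB1.tensorPow L (ν * μ)) 0 := by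
  haveI := H28Int.isNoetherian k (X := X)
  obtain ⟨n₀, h₀⟩ := VolBig.eventually_pos k hA (H11Ample.isInvertible_structureModule (X := X))
  let B := CohB1.tensorPow A (n₀ + 1)
  have hB : CohB1.IsAmple B := (isAmple_tensorPow_iff hA.1 _ (Nat.succ_pos n₀)).1 hA
  have hBpos : 0 < hd k B 0 :=
    (h₀ (n₀ + 1) (Nat.le_succ n₀)).trans_le (hd_congr (H10Coh.Tw.leftUnitIso _) 0).le
  have key : ∀ μ : ℕ, hd k (CohB1.tensorPow B μ) 0 ≤ hd k (CohB1.tensorPow L (a * (n₀ + 1) * μ)) 0 := fun μ => by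
    obtain ⟨e₀⟩ := NakaiGen.nonempty_tensorPow_mul A (n₀ + 1) μ
    obtain ⟨e₁⟩ := exists_iso_tensorPow_tensor hA.1 hE ((n₀ + 1) * μ)
    obtain ⟨e₂⟩ := NakaiSemi.nonempty_tensorPow_congr e ((n₀ + 1) * μ)
    obtain ⟨e₃⟩ := NakaiGen.nonempty_tensorPow_mul L a ((n₀ + 1) * μ)
    rw [hd_congr e₀ 0]
    refine (VolBig.hd0_le_of_pos k (isInvertible_tensorPow hA.1 _) (isInvertible_tensorPow hE _)
      (VolBig.pow_pos_of_pos k hE hEpos ((n₀ + 1) * μ))).trans (hd_congr (e₁ ≪≫ e₂ ≪≫ e₃ ≪≫ eqToIso ?_) 0).le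
    rw [Nat.mul_assoc]
  obtain ⟨K, hK⟩ := VolBig.ample_lower k hB hdim
  obtain ⟨N, hN⟩ := eventually_atTop.1 hK
  refine ⟨a * (n₀ + 1), K + N ^ d + 1, by positivity, Nat.succ_pos _, fun μ hμ => ?_⟩
  refine le_trans ?_ (Nat.mul_le_mul_left _ (key μ))
  rcases le_or_gt N μ with h | h
  · exact (hN μ h).trans (Nat.mul_le_mul_right _ (by omega))
  · refine (Nat.pow_le_pow_left h.le d).trans (le_trans ?_ (Nat.le_mul_of_pos_right _ (VolBig.pow_pos_of_pos k hB.1 hBpos μ)))
    omega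

/-- Kodaira's lemma for every ample module. -/
theorem exists_eff_of_vol {L A : X.Modules} (hL : PicF.IsInvertible L) (hA : CohB1.IsAmple A)
    (h : 0 < VolLimsup.vol d fun m => hd k (CohB1.tensorPow L m) 0) :
    ∃ (m : ℕ) (E : X.Modules), 0 < m ∧ PicF.IsInvertible E ∧ 0 < hd k E 0 ∧
      Nonempty (CohB1.tensorMod A E ≅ CohB1.tensorPow L m) := by
  haveI := H28Int.isNoetherian k (X := X)
  obtain ⟨a, B, E, ha, hB, hE, hEpos, ⟨eL⟩⟩ := VolBig.kodaira k hH hdim hL h
  obtain ⟨A', hA', ⟨e⟩⟩ := H29RR.exists_inverse_comm hA.1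
  obtain ⟨q₀, hq₀⟩ := VolBig.eventually_pos k hB hA'
  let q := q₀ + 1
  have hq : 0 < hd k (CohB1.tensorMod A' (CohB1.tensorPow B q)) 0 := hq₀ q (Nat.le_succ _)
  obtain ⟨e₁⟩ := exists_iso_tensorPow_tensor hB.1 hE q
  obtain ⟨e₂⟩ := NakaiSemi.nonempty_tensorPow_congr eL q
  obtain ⟨e₃⟩ := NakaiGen.nonempty_tensorPow_mul L a q
  refine ⟨a * q, CohB1.tensorMod (CohB1.tensorMod A' (CohB1.tensorPow B q)) (CohB1.tensorPow E q), by positivity,
    isInvertible_tensor (isInvertible_tensor hA' (isInvertible_tensorPow hB.1 q)) (isInvertible_tensorPow hE q), ?_, ?_⟩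
  · exact hq.trans_le (VolBig.hd0_le_of_pos k (isInvertible_tensor hA' (isInvertible_tensorPow hB.1 q))
      (isInvertible_tensorPow hE q) (VolBig.pow_pos_of_pos k hE hEpos q))
  · exact ⟨PicGrp.tensorModIso (Iso.refl A) (H10Coh.Tw.assoc A' _ _) ≪≫ (H10Coh.Tw.assoc A A' _).symm ≪≫
      PicGrp.tensorModIso e (Iso.refl _) ≪≫ H10Coh.Tw.leftUnitIso _ ≪≫ e₁ ≪≫ e₂ ≪≫ e₃⟩

/-- An ample twist inside a power makes the upper limit positive. -/
theorem vol_pos_of_eff {L A E : X.Modules} (hA : CohB1.IsAmple A)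
    (hE : PicF.IsInvertible E) (hEpos : 0 < hd k E 0) {a : ℕ} (ha : 0 < a)
    (e : CohB1.tensorMod A E ≅ CohB1.tensorPow L a) :
    0 < VolLimsup.vol d fun m => hd k (CohB1.tensorPow L m) 0 := by
  obtain ⟨ν, K, hν, -, hK⟩ := growth_of_eff k hH hdim hA hE hEpos ha e
  exact vol_pos_of_multiples hν hK

end Integral

section Birational

variable [IsIntegral X] {Y : Scheme.{u}} [Y.Over (Spec (CommRingCat.of k))] [IsIntegral Y]
  [IsProper (Y ↘ Spec (CommRingCat.of k))]

/-- Sections of powers along a birational morphism differ by `O(m^(d-1))`. -/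
theorem pullback_diff_birational (f : Y ⟶ X) (hf : f ≫ (X ↘ Spec (CommRingCat.of k)) = Y ↘ Spec (CommRingCat.of k))
    (hbir : RadPt.IsBirational f) {d : ℕ} (hdim : topologicalKrullDim X ≤ (d : WithBot ℕ∞))
    {L : X.Modules} (hL : PicF.IsInvertible L) :
    ∃ C : ℕ, ∀ m : ℕ,
      hd k (CohB1.tensorPow L m) 0 ≤ hd k (CohB1.tensorPow ((Scheme.Modules.pullback f).obj L) m) 0 ∧
      hd k (CohB1.tensorPow ((Scheme.Modules.pullback f).obj L) m) 0 ≤
        hd k (CohB1.tensorPow L m) 0 + C * ((m + 1) ^ d - m ^ d) := by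
  haveI := H28Int.isNoetherian k (X := X)
  haveI := H28Int.isNoetherian k (X := Y)
  haveI : IsProper f := by
    haveI : IsProper (f ≫ (X ↘ Spec (CommRingCat.of k))) := hf ▸ inferInstance
    exact IsProper.of_comp f (X ↘ Spec (CommRingCat.of k))
  have hY : genericPoints Y = {genericPoint Y} := genericPoints_eq_singleton
  have hX : genericPoints X = {genericPoint X} := genericPoints_eq_singleton
  have hdom : f (genericPoint Y) = genericPoint X := by
    have := hbir.1.mapsTo (hY.ge rfl)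
    rwa [hX] at this
  have hbij : Function.Bijective (f.residueFieldMap (genericPoint Y)).hom :=
    (hbir.2 (genericPoint X) (hX.ge rfl)).2 (genericPoint Y) hdom
  have hn : f.residueDegree (genericPoint Y) = 1 := by
    letI := (f.residueFieldMap (genericPoint Y)).hom.toAlgebra
    show Module.finrank (X.residueField (f (genericPoint Y))) (Y.residueField (genericPoint Y)) = 1
    rw [← (LinearEquiv.ofBijective (Algebra.linearMap _ _) hbij).finrank_eq, Module.finrank_self]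
  let P := (Coh.push f).obj (Coh.structureModule Y)
  have hP : Coh.IsCoh P := H24GE.isCoh_pushforward f (H10Coh.isCoh_structureModule' Y)
  have hPr := VolPush.genRank_push_structure f hdom (by rw [hn]; exact Nat.one_pos) hP
  haveI := mono_unitToPush f hdom
  let S := ShortComplex.mk (ClSub.unitToPush f) (cokernel.π (ClSub.unitToPush f)) (cokernel.condition _)
  have hS : S.ShortExact :=
    ShortComplex.ShortExact.mk' (ShortComplex.exact_cokernel _) inferInstance inferInstance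
  have hO : Coh.IsCoh (Coh.structureModule X) := H10Coh.isCoh_structureModule' X
  have hQ : Coh.IsCoh S.X₃ := H10Coh.isCoh_cokernel _ hO.1 hP
  have hQ0 : H25Euler.genRank S.X₃ = 0 := by
    have h := H25Euler.genRank_add hS hP
    have h1 : H25Euler.genRank S.X₂ = 1 := hPr.trans hn
    have h2 : H25Euler.genRank S.X₁ = 1 := H25Euler.genRank_structure
    omega
  obtain ⟨C, hC⟩ := bdd_of_dim_lt k hQ (H28Int.dim_lt_of_notMem (C := Set.univ) (genericPoint_spec X)
    (le_trans (le_of_eq (Homeomorph.Set.univ X).isHomeomorph.topologicalKrullDim_eq) hdim)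
    (H10Coh.isClosed_support _ hQ.2) (Set.subset_univ _) (H25Euler.notMem_support_of_genRank_eq_zero hQ hQ0)) L hL
  refine ⟨C, fun m => ?_⟩
  have hm := isInvertible_tensorPow hL m
  obtain ⟨e₁⟩ := H10Coh.Tw.nonempty_push_tensor_iso f (Coh.structureModule Y) hm
  obtain ⟨e₂⟩ := exists_iso_pullback_tensorPow f hL m
  have hY' : hd k (CohB1.tensorPow ((Scheme.Modules.pullback f).obj L) m) 0 =
      hd k (CohB1.tensorMod P (CohB1.tensorPow L m)) 0 := by
    rw [hd_congr e₁ 0, VolPush.hd0_push k f hf, hd_congr (H10Coh.Tw.leftUnitIso _ ≪≫ e₂) 0]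
  rw [hY', ← hd_congr (H10Coh.Tw.leftUnitIso (CohB1.tensorPow L m)) 0]
  constructor
  · obtain ⟨ν, hν⟩ := H12Pic.NumTriv.exists_mono_tensor (ClSub.unitToPush f) hm
    haveI := hν
    exact VolGrowth.hd0_le_of_mono k ν (isCoh_tensor hP hm)
  · exact (VolGrowth.hd0_le_add k (H10Coh.Tw.shortExact_seq hS hm) (isCoh_tensor hO hm)
      (isCoh_tensor hP hm) (isCoh_tensor hQ hm)).trans (Nat.add_le_add_left (hC m) _)

end Birational

end Groth.Agent.H11Big
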