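import Groth.Agent.H11Big.Kodaira
import Groth.Agent.H12Pic.NefBC
import Groth.Agent.H22Alg.VolMultiHhat
import Groth.Agent.H22Alg.Nakai

/-!
# A nef module is big exactly when its top self-intersection is positive
-/

set_option autoImplicit false
set_option linter.style.haveILetI false
set_option linter.unusedSectionVars false

universe u

open CategoryTheory CategoryTheory.Limits AlgebraicGeometry TopologicalSpace Filter
open Groth.Agent.H11Ample Groth.Agent.H25Index
open Groth.Agent.H22Alg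
open scoped ENNReal

noncomputable section

namespace Groth.Agent.H11Big

attribute [local instance] Groth.Agent.H28Vert.picLaw

variable (k : Type u) [Field k] {X : Scheme.{u}} [X.Over (Spec (CommRingCat.of k))]
  [IsProper (X ↘ Spec (CommRingCat.of k))] [IsIntegral X]

theorem dim_support_structure {d : ℕ} (hdim : topologicalKrullDim X ≤ (d : WithBot ℕ∞)) :
    topologicalKrullDim (CohB1.support (Coh.structureModule X)) ≤ (d : WithBot ℕ∞) :=
  (Topology.IsInducing.subtypeVal.topologicalKrullDim_le).trans hdim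

variable {H : X.Modules} (hH : CohB1.IsAmple H) {d : ℕ} (hdim : topologicalKrullDim X = d)
include hH hdim

/-- The self-intersection of an ample module is positive. -/
theorem I_pos {L : X.Modules} : 0 < NefQ.I k L H 0 d (Coh.structureModule X) := by
  haveI := H28Int.isNoetherian k (X := X)
  have hO : Coh.IsCoh (Coh.structureModule X) := H10Coh.isCoh_structureModule' X
  obtain ⟨P, -, hP⟩ := Snapper.exists_poly k hO (dim_support_structure hdim.le) (r := d) (L := fun _ => H) (fun _ => hH.1)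
  have hpos := DegAmple.coeff_pos k hdim hH hP
  rw [Snapper.coeff_one_eq_D k hO (dim_support_structure hdim.le) (L := fun _ : Fin d => H) (fun _ => hH.1) hP,
    List.ofFn_const] at hpos
  show 0 < (-1 : ℤ) ^ _ * _
  rw [List.replicate_zero, List.nil_append, List.length_replicate]
  exact_mod_cast hpos

/-- An effective twist: cutting by the divisor keeps mixed intersection numbers nonnegative. -/
theorem Q_eff_nonneg {L E : X.Modules} (hL : PicF.IsInvertible L) (hnef : Kleiman.Nef k L)
    (hE : PicF.IsInvertible E) (hEpos : 0 < hd k E 0) (i j : ℕ) (hij : i + j + 1 = d) :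
    0 ≤ NefQ.Q k (E :: (List.replicate i L ++ List.replicate j H)) (Coh.structureModule X) := by
  haveI := H28Int.isNoetherian k (X := X)
  obtain ⟨g, hg⟩ := VolBig.exists_ne_zero_of_pos k hEpos
  obtain ⟨hmono, hη⟩ := H29RR.mono_homOfGlobal hE hg
  haveI := hmono
  let l := List.replicate i L ++ List.replicate j H
  have hl := NefQ.inv_mixed hL hH.1 i j
  have hlen : l.length = i + j := by simp [l]
  let φ := H11Tilde.homOfGlobal E g
  let C := cokernel φ
  have hO : Coh.IsCoh (Coh.structureModule X) := H10Coh.isCoh_structureModule' X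
  have hC : Coh.IsCoh C := H10Coh.isCoh_cokernel φ hO.1 (isCoh_of_isInvertible hE)
  have hS : (ShortComplex.mk φ (cokernel.π φ) (cokernel.condition φ)).ShortExact :=
    ShortComplex.ShortExact.mk' (ShortComplex.exact_cokernel φ) inferInstance inferInstance
  have hCd : topologicalKrullDim (CohB1.support C) < ((i + j + 1 : ℕ) : WithBot ℕ∞) :=
    H28Int.dim_lt_of_notMem (C := Set.univ) (genericPoint_spec X)
      (le_trans (le_of_eq (Homeomorph.Set.univ X).isHomeomorph.topologicalKrullDim_eq) (hij ▸ hdim.le))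
      (H10Coh.isClosed_support _ hC.2) (Set.subset_univ _) hη
  have hCd' : topologicalKrullDim (CohB1.support C) ≤ (l.length : WithBot ℕ∞) := by
    rw [hlen]; exact (H12Pic.NumTriv.lt_succ_iff' _ _).1 hCd
  have hadd := (H28Int.isAddFn_D k l hl).add _ hS hO (isCoh_of_isInvertible hE) hC
  have hEO : H28Int.D k l (CohB1.tensorMod E (Coh.structureModule X)) = H28Int.D k l E :=
    (H28Int.isAddFn_D k l hl).congr (H10Coh.Tw.rightUnitIso E)
  have key : NefQ.Q k (E :: l) (Coh.structureModule X) = NefQ.Q k l C := by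
    show (-1 : ℤ) ^ _ * (H28Int.D k l (Coh.structureModule X) - H28Int.D k l (CohB1.tensorMod E (Coh.structureModule X))) =
      (-1 : ℤ) ^ _ * _
    rw [hEO]
    simp only [List.length_cons, pow_succ]
    change H28Int.D k l E = H28Int.D k l (Coh.structureModule X) + H28Int.D k l C at hadd
    rw [hadd]; ring
  rw [key]
  refine NefQ.nonneg_of_integral k hl hC hCd' fun W _ _ _ ι _ hι hW => ?_
  have hm := Kleiman.mixed_nonneg k (i + j) W _ _ (isInvertible_pullback ι hL) (Kleiman.nef_pullback k ι hι hL hnef)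
    (isAmple_pullback_of_isAffineHom ι hH) (by rw [hW, hlen]) i (Nat.le_add_right i j)
  rw [Nat.add_sub_cancel_left, NefQ.I] at hm
  simpa [l] using hm

/-- For an effective `A ⊗ E = L^a` with `A = H`: the top self-intersection of a nef `L` is positive. -/
theorem top_pos_of_eff {L E : X.Modules} (hL : PicF.IsInvertible L) (hnef : Kleiman.Nef k L)
    (hE : PicF.IsInvertible E) (hEpos : 0 < hd k E 0) {a : ℕ}
    (e : CohB1.tensorMod H E ≅ CohB1.tensorPow L a) :
    0 < NefQ.I k L H d 0 (Coh.structureModule X) := by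
  haveI := H28Int.isNoetherian k (X := X)
  have hO : Coh.IsCoh (Coh.structureModule X) := H10Coh.isCoh_structureModule' X
  have step : ∀ i j : ℕ, i + j + 1 = d →
      NefQ.I k L H i (j + 1) (Coh.structureModule X) ≤ (a : ℤ) * NefQ.I k L H (i + 1) j (Coh.structureModule X) := by
    intro i j hij
    have hl := NefQ.inv_mixed hL hH.1 i j
    have hd' : topologicalKrullDim (CohB1.support (Coh.structureModule X)) ≤
        (((List.replicate i L ++ List.replicate j H).length + 1 : ℕ) : WithBot ℕ∞) := by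
      simpa [hij] using dim_support_structure hdim.le
    have h1 := NefQ.Q_cons_pow k hl hL hO hd' a
    rw [NefQ.I_cons_left k hL hH.1] at h1
    have h2 : NefQ.Q k (CohB1.tensorPow L a :: (List.replicate i L ++ List.replicate j H)) (Coh.structureModule X) =
        NefQ.Q k (CohB1.tensorMod H E :: (List.replicate i L ++ List.replicate j H)) (Coh.structureModule X) := by
      show _ * (H28Int.D k _ _ - H28Int.D k _ _) = _ * (H28Int.D k _ _ - H28Int.D k _ _)
      rw [(H28Int.isAddFn_D k _ hl).congr (PicGrp.tensorModIso e (Iso.refl (Coh.structureModule X)))]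
      rfl
    rw [h2, NefQ.Q_cons_tensor k hl hH.1 hE hO hd', NefQ.I_cons_right k hL hH.1] at h1
    have h3 := Q_eff_nonneg k hH hdim hL hnef hE hEpos i j hij
    linarith
  have chain : ∀ i : ℕ, i ≤ d → 0 < NefQ.I k L H i (d - i) (Coh.structureModule X) := by
    intro i
    induction i with
    | zero => intro _; exact I_pos k hH hdim
    | succ i ih =>
      intro hi
      have h0 := ih (Nat.le_of_succ_le hi)
      have h1 := step i (d - (i + 1)) (by omega)
      rw [show d - (i + 1) + 1 = d - i by omega] at h1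
      by_contra hneg
      have h4 : (a : ℤ) * NefQ.I k L H (i + 1) (d - (i + 1)) (Coh.structureModule X) ≤ 0 :=
        mul_nonpos_of_nonneg_of_nonpos (Int.natCast_nonneg a) (not_lt.1 hneg)
      linarith
  simpa using chain d le_rfl

/-- The top self-intersection bounds that of `L^ν ⊗ H` from below. -/
theorem top_le_twist {L : X.Modules} (hL : PicF.IsInvertible L) (hnef : Kleiman.Nef k L) (ν : ℕ) :
    (ν : ℤ) ^ d * NefQ.I k L H d 0 (Coh.structureModule X) ≤
      NefQ.Q k (List.replicate d (CohB1.tensorMod (CohB1.tensorPow L ν) (CohB1.tensorPow H 1))) (Coh.structureModule X) := by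
  haveI := H28Int.isNoetherian k (X := X)
  have hO : Coh.IsCoh (Coh.structureModule X) := H10Coh.isCoh_structureModule' X
  have hex := NefQ.expand k hL hH.1 ν 1 hO d 0 0 (by simpa using dim_support_structure hdim.le)
  simp only [List.replicate_zero, List.append_nil, zero_add] at hex
  rw [hex]
  refine le_trans (le_of_eq ?_) (Finset.single_le_sum (fun s hs => mul_nonneg (by positivity)
    (Kleiman.mixed_nonneg k d X L H hL hnef hH hdim s (Nat.le_of_lt_succ (Finset.mem_range.1 hs))))
    (Finset.mem_range.2 (Nat.lt_succ_self d)))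
  simp

/-- A nef module with positive top self-intersection is big. -/
theorem vol_pos_of_top {L : X.Modules} (hL : PicF.IsInvertible L) (hnef : Kleiman.Nef k L)
    (hpos : 0 < NefQ.I k L H d 0 (Coh.structureModule X)) :
    0 < VolLimsup.vol d fun m => hd k (CohB1.tensorPow L m) 0 := by
  classical
  haveI := H28Int.isNoetherian k (X := X)
  have hO : Coh.IsCoh (Coh.structureModule X) := H10Coh.isCoh_structureModule' X
  rcases Nat.eq_zero_or_pos d with hd0 | hd0
  · have hLa : CohB1.IsAmple L := Nakai.isAmple_of_pos k hL fun Z i _ _ d' hd' hZ => by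
      exfalso
      have h := le_trans (le_of_eq hZ.symm) (le_trans (i.isClosedEmbedding.isInducing.topologicalKrullDim_le)
        (le_of_eq hdim))
      rw [hd0] at h
      exact absurd (show d' ≤ 0 by exact_mod_cast h) (Nat.not_le.2 hd')
    obtain ⟨K, hK⟩ := VolBig.ample_lower k hLa hdim
    exact vol_pos_of_frequently K hK.frequently
  let g : Fin 2 → PicLoc.PicSet X := ![PicGrp.cls L hL, PicGrp.cls H hH.1]
  obtain ⟨C, hC⟩ := VolMulti.lipschitz k g hH hdim.le 0
  set M : ℕ := C * (d * 2 ^ d) with hM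
  obtain ⟨ν, hν1, hν, hν4⟩ : ∃ ν : ℕ, 1 ≤ ν ∧ (2 * d.factorial * M * 2 ^ (d - 1) : ℕ) < ν ∧
      4 * d.factorial ≤ ν :=
    ⟨2 * d.factorial * M * 2 ^ (d - 1) + 4 * d.factorial + 1, Nat.succ_pos _, by omega, by omega⟩
  let B := CohB1.tensorMod (CohB1.tensorPow L ν) H
  have hB : CohB1.IsAmple B := H12Pic.NefBC.isAmple_of_nef k hL hnef hH ν
  -- the growth of `B`
  obtain ⟨P, -, hP⟩ := Snapper.exists_poly k hO (dim_support_structure hdim.le) (r := d) (L := fun _ => B) (fun _ => hB.1)
  obtain ⟨C', hC'⟩ := DegAmple.hilbert_bound k hdim hB hP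
  set c := MvPolynomial.coeff (Finsupp.equivFunOnFinite.symm fun _ : Fin d => 1) P with hc
  have hcν : ((ν : ℚ)) ^ d ≤ c := by
    have e1 : CohB1.tensorMod (CohB1.tensorPow L ν) (CohB1.tensorPow H 1) ≅ B :=
      PicGrp.tensorModIso (Iso.refl _) (H10Coh.Tw.leftUnitIso H)
    have h := top_le_twist k hH hdim hL hnef ν
    have hP' : ∀ n : Fin d → ℕ, (Curv2.euler k X (Curv2.tensorPows (Coh.structureModule X) d
        (fun _ => CohB1.tensorMod (CohB1.tensorPow L ν) (CohB1.tensorPow H 1)) n) : ℚ) =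
        MvPolynomial.eval (fun i => (n i : ℚ)) P := fun n => by
      obtain ⟨e2⟩ := DegAmple.nonempty_tensorPows_const (CohB1.tensorMod (CohB1.tensorPow L ν) (CohB1.tensorPow H 1)) d n
      obtain ⟨e3⟩ := DegAmple.nonempty_tensorPows_const B d n
      obtain ⟨e4⟩ := NakaiSemi.nonempty_tensorPow_congr e1 (∑ i, n i)
      rw [← hP n, H25Euler.euler_congr (e2 ≪≫ e4 ≪≫ e3.symm)]
    have hD := Snapper.coeff_one_eq_D k hO (dim_support_structure hdim.le)
      (L := fun _ : Fin d => CohB1.tensorMod (CohB1.tensorPow L ν) (CohB1.tensorPow H 1))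
      (fun _ => isInvertible_tensor (isInvertible_tensorPow hL ν) (isInvertible_tensorPow hH.1 1)) hP'
    rw [List.ofFn_const] at hD
    rw [hc, hD]
    have h' : (ν : ℤ) ^ d ≤ NefQ.Q k (List.replicate d
        (CohB1.tensorMod (CohB1.tensorPow L ν) (CohB1.tensorPow H 1))) (Coh.structureModule X) :=
      le_trans (le_mul_of_one_le_right (by positivity) hpos) h
    rw [NefQ.Q, List.length_replicate] at h'
    exact_mod_cast h'
  -- sections of the powers of `L`
  have hcmp : ∀ m : ℕ, hd k (CohB1.tensorPow B m) 0 ≤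
      hd k (CohB1.tensorPow L (ν * m)) 0 + m * (C * VolHigh.delta d ((ν + 1) * m)) := by
    intro m
    have hBm : PicGrp.cls (CohB1.tensorPow B m) (isInvertible_tensorPow hB.1 m) =
        VolMulti.z g ![((ν * m : ℕ) : ℤ), (m : ℤ)] := by
      rw [H28Vert.cls_tensorPow hB.1 m]
      have hb : PicGrp.cls B hB.1 = PicGrp.cls L hL ^ ν * PicGrp.cls H hH.1 := by
        rw [← H28Vert.cls_tensorPow hL ν]
        exact Subtype.ext (PicGrp.cls_mul_cls_val (isInvertible_tensorPow hL ν) hH.1).symm
      rw [hb, mul_pow, ← pow_mul]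
      simp [VolMulti.z, Fin.prod_univ_two, g, ← zpow_natCast]
    have hLm : PicGrp.cls (CohB1.tensorPow L (ν * m)) (isInvertible_tensorPow hL _) =
        VolMulti.z g ![((ν * m : ℕ) : ℤ), 0] := by
      rw [H28Vert.cls_tensorPow hL]
      simp [VolMulti.z, Fin.prod_univ_two, g, ← zpow_natCast]
    obtain ⟨i₁⟩ := VolMulti.nonempty_rep_iso _ hBm
    obtain ⟨i₂⟩ := VolMulti.nonempty_rep_iso _ hLm
    rw [hd_congr i₁ 0, hd_congr i₂ 0]
    refine (hC ((ν + 1) * m) _ _ (fun j => ?_) (fun j => ?_)).trans (Nat.add_le_add_left (le_of_eq ?_) _)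
    · fin_cases j <;> simp [Int.natAbs_mul] <;> nlinarith
    · fin_cases j <;> simp [Int.natAbs_mul] <;> nlinarith
    · simp [Fin.sum_univ_two]
  refine vol_pos_of_frequently (ν ^ d) (frequently_atTop.2 fun N => ?_)
  obtain ⟨m, hm1, hm⟩ : ∃ m : ℕ, max N 1 ≤ m ∧ (C' * 2 ^ (d - 1) + 1 : ℚ) * (4 * d.factorial) ≤ m := by
    obtain ⟨m, hm⟩ := exists_nat_ge ((C' * 2 ^ (d - 1) + 1 : ℚ) * (4 * d.factorial))
    exact ⟨m + max N 1, Nat.le_add_left _ _, hm.trans (by exact_mod_cast Nat.le_add_right _ _)⟩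
  have hm0 : 1 ≤ m := (le_max_right _ _).trans hm1
  refine ⟨ν * m, ((le_max_left _ _).trans hm1).trans (Nat.le_mul_of_pos_left m hν1), ?_⟩
  rw [mul_pow]
  refine Nat.mul_le_mul_left _ ?_
  -- `h⁰(B^m) ≥ (c/d!) m^d - C' (m+1)^(d-1)`, the error is at most half of it
  have hdelta : m * (C * VolHigh.delta d ((ν + 1) * m)) ≤ M * 2 ^ (d - 1) * ν ^ (d - 1) * m ^ d := by
    have hs := VolLimsup.sub_pow_le d ((ν + 1) * m) (Nat.mul_pos (Nat.succ_pos ν) hm0)
    obtain ⟨e, rfl⟩ : ∃ e, d = e + 1 := ⟨d - 1, by omega⟩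
    have h2 : VolHigh.delta (e + 1) ((ν + 1) * m) ≤ (e + 1) * 2 ^ (e + 1) * ((ν + 1) * m) ^ e := by
      refine Nat.le_of_mul_le_mul_left (hs.trans (le_of_eq ?_)) (Nat.mul_pos (Nat.succ_pos ν) hm0)
      ring
    rw [Nat.add_sub_cancel]
    have h3 : (ν + 1) ^ e ≤ 2 ^ e * ν ^ e := by rw [← mul_pow]; exact Nat.pow_le_pow_left (by omega) e
    calc m * (C * VolHigh.delta (e + 1) ((ν + 1) * m))
        ≤ m * (C * ((e + 1) * 2 ^ (e + 1) * ((ν + 1) * m) ^ e)) := Nat.mul_le_mul_left _ (Nat.mul_le_mul_left C h2)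
      _ = M * (ν + 1) ^ e * m ^ (e + 1) := by rw [hM, mul_pow]; ring
      _ ≤ M * (2 ^ e * ν ^ e) * m ^ (e + 1) := Nat.mul_le_mul_right _ (Nat.mul_le_mul_left M h3)
      _ = _ := by ring
  have hlow : -(C' * ((m : ℚ) + 1) ^ (d - 1)) ≤
      (hd k (CohB1.tensorPow B m) 0 : ℚ) - c / (d.factorial : ℚ) * (m : ℚ) ^ d := (abs_le.1 (hC' m)).1
  have hcm := hcmp m
  have hf : (0 : ℚ) < d.factorial := by exact_mod_cast d.factorial_pos
  have key : ((m ^ d : ℕ) : ℚ) ≤ (hd k (CohB1.tensorPow L (ν * m)) 0 : ℚ) := by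
    have hcm' : (hd k (CohB1.tensorPow B m) 0 : ℚ) ≤ (hd k (CohB1.tensorPow L (ν * m)) 0 : ℚ) +
        ((M * 2 ^ (d - 1) * ν ^ (d - 1) * m ^ d : ℕ) : ℚ) := by
      exact_mod_cast hcm.trans (Nat.add_le_add_left hdelta _)
    have hm' : (1 : ℚ) ≤ m := by exact_mod_cast hm0
    have h1 : ((m : ℚ) + 1) ^ (d - 1) ≤ 2 ^ (d - 1) * (m : ℚ) ^ (d - 1) := by
      rw [← mul_pow]; exact pow_le_pow_left₀ (by linarith) (by linarith) _
    have hpm : (m : ℚ) ^ d = m * (m : ℚ) ^ (d - 1) := by rw [← pow_succ', Nat.sub_add_cancel hd0]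
    have hpν : (ν : ℚ) ^ d = ν * (ν : ℚ) ^ (d - 1) := by rw [← pow_succ', Nat.sub_add_cancel hd0]
    have h2 : C' * ((m : ℚ) + 1) ^ (d - 1) ≤ 1 / (4 * d.factorial) * (m : ℚ) ^ d := by
      have hC0 : 0 ≤ C' := by
        have := (abs_nonneg _).trans (hC' 0)
        simpa using this
      calc C' * ((m : ℚ) + 1) ^ (d - 1) ≤ C' * 2 ^ (d - 1) * (m : ℚ) ^ (d - 1) := by
            rw [mul_assoc]; exact mul_le_mul_of_nonneg_left h1 hC0
        _ ≤ 1 / (4 * d.factorial) * m * (m : ℚ) ^ (d - 1) := by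
            refine mul_le_mul_of_nonneg_right ?_ (by positivity)
            rw [div_mul_eq_mul_div, one_mul, le_div_iff₀ (by positivity)]
            nlinarith
        _ = _ := by rw [hpm]; ring
    have h3 : ((M * 2 ^ (d - 1) * ν ^ (d - 1) * m ^ d : ℕ) : ℚ) ≤
        (ν : ℚ) ^ d / (2 * d.factorial) * (m : ℚ) ^ d := by
      push_cast
      refine mul_le_mul_of_nonneg_right ?_ (by positivity)
      rw [le_div_iff₀ (by positivity), hpν]
      have hν' : ((2 * d.factorial * M * 2 ^ (d - 1) : ℕ) : ℚ) ≤ (ν : ℚ) := by exact_mod_cast hν.le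
      push_cast at hν'
      have : (0 : ℚ) ≤ (ν : ℚ) ^ (d - 1) := by positivity
      nlinarith
    have h4 : (ν : ℚ) ^ d / d.factorial * (m : ℚ) ^ d ≤ c / d.factorial * (m : ℚ) ^ d :=
      mul_le_mul_of_nonneg_right (div_le_div_of_nonneg_right hcν hf.le) (by positivity)
    have h5 : (4 * d.factorial : ℚ) ≤ (ν : ℚ) ^ d := by
      exact_mod_cast hν4.trans (Nat.le_self_pow (by omega) ν)
    push_cast
    have h6 : (m : ℚ) ^ d ≤ (ν : ℚ) ^ d / (4 * d.factorial) * (m : ℚ) ^ d :=
      le_mul_of_one_le_left (by positivity) ((one_le_div (by positivity)).2 h5)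
    have h7 : 1 / (4 * d.factorial : ℚ) * (m : ℚ) ^ d ≤ (ν : ℚ) ^ d / (4 * d.factorial) * (m : ℚ) ^ d :=
      mul_le_mul_of_nonneg_right (div_le_div_of_nonneg_right (one_le_pow₀ (by exact_mod_cast hν1)) (by positivity))
        (by positivity)
    have h8 : (ν : ℚ) ^ d / d.factorial * (m : ℚ) ^ d = (ν : ℚ) ^ d / (2 * d.factorial) * (m : ℚ) ^ d +
        2 * ((ν : ℚ) ^ d / (4 * d.factorial) * (m : ℚ) ^ d) := by field_simp; ring
    linarith
  exact_mod_cast key

end Groth.Agent.H11Big

namespace Groth.Agent.H11Big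

open Groth.Agent.H22Alg in
/-- The top intersection number of the inverse is the top self-intersection. -/
theorem intNum_inverse_eq (k : Type u) [Field k] {X : Scheme.{u}} [X.Over (Spec (CommRingCat.of k))]
    [IsProper (X ↘ Spec (CommRingCat.of k))] [IsIntegral X] {H : X.Modules} {d : ℕ}
    (hdim : topologicalKrullDim X = d) {L Linv : X.Modules} (hL : PicF.IsInvertible L)
    (hLinv : ClSub.IsInverseOf Linv L) :
    FGA.intNum k X d (fun _ : Fin d => Linv) (Coh.structureModule X) = NefQ.I k L H d 0 (Coh.structureModule X) := by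
  haveI := H28Int.isNoetherian k (X := X)
  have hLi := isInvertible_of_isInverseOf hL hLinv
  obtain ⟨e⟩ := hLinv
  have hO : Coh.IsCoh (Coh.structureModule X) := H10Coh.isCoh_structureModule' X
  rw [H28Int.intNum_eq k hdim.le _ (fun _ => hLi) hO, List.ofFn_const, NefQ.I, NefQ.Q, List.replicate_zero,
    List.append_nil, List.length_replicate,
    DegAmple.D_replicate k hL hLi (H10Coh.Tw.commIso L Linv ≪≫ e) d _ hO (dim_support_structure hdim.le),
    ← mul_assoc, ← pow_add, ← two_mul, pow_mul, neg_one_sq, one_pow, one_mul]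

end Groth.Agent.H11Big
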