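import Groth.Agent.H11Big.NefBig

/-!
# The growth of sections of a nef module is bounded by its numerical dimension
-/

set_option autoImplicit false
set_option linter.style.haveILetI false
set_option linter.unusedSectionVars false

universe u

open CategoryTheory CategoryTheory.Limits AlgebraicGeometry TopologicalSpace Filter
open Groth.Agent.H11Ample Groth.Agent.H25Index
open Groth.Agent.H22Alg
open scoped ENNReal

noncomputable section

namespace Groth.Agent.H11Big

variable (k : Type u) [Field k] {X : Scheme.{u}} [X.Over (Spec (CommRingCat.of k))]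
  [IsProper (X ↘ Spec (CommRingCat.of k))]

/-- If the `m`-th self-intersection vanishes on the `m`-dimensional integral subschemes, all higher ones
vanish on coherent modules. -/
theorem D_vanish {L : X.Modules} (hL : PicF.IsInvertible L) {m : ℕ}
    (h : ∀ (Z : Scheme.{u}) (i : Z ⟶ X) [IsClosedImmersion i], IsIntegral Z → topologicalKrullDim Z = (m : ℕ) →
      H28Int.D k (List.replicate m L) ((Scheme.Modules.pushforward i).obj (Coh.structureModule Z)) = 0) :
    ∀ (t : ℕ) (F : X.Modules), Coh.IsCoh F →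
      topologicalKrullDim (CohB1.support F) ≤ ((m + t : ℕ) : WithBot ℕ∞) →
      H28Int.D k (List.replicate (m + t) L) F = 0
  | 0, F, hF, hd => by
    haveI := H28Int.isNoetherian k (X := X)
    have hl : ∀ A ∈ List.replicate m L, PicF.IsInvertible A := fun A hA => List.eq_of_mem_replicate hA ▸ hL
    rw [Nat.add_zero, DevLength.eq_finsum (H28Int.isAddFn_D k _ hl)
      (fun G hG hG' => H28Int.D_eq_zero k _ hl G hG (by rwa [List.length_replicate])) hF hd]
    refine finsum_eq_zero_of_forall_eq_zero fun ξ => ?_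
    split_ifs with hξ
    · let J := Scheme.IdealSheafData.vanishingIdeal (DevLength.cl ξ)
      haveI : IsIntegral J.subscheme := isIntegral_vanishingIdeal_closure ξ
      have hdim : topologicalKrullDim J.subscheme = ((m : ℕ) : WithBot ℕ∞) := by
        rw [NakaiPos.dim_subscheme, Scheme.IdealSheafData.coe_support_vanishingIdeal]
        exact hξ
      have h0 := h J.subscheme J.subschemeι inferInstance hdim
      exact mul_eq_zero_of_right _ h0
    · rfl
  | t + 1, F, hF, hd => by
    haveI := H28Int.isNoetherian k (X := X)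
    have hl : ∀ A ∈ List.replicate (m + t) L, PicF.IsInvertible A := fun A hA => List.eq_of_mem_replicate hA ▸ hL
    have e := (H28Int.isAddFn_D k _ hl).twist_eq (r := m + t + 1) (fun G hG hG' =>
      D_vanish hL h t G hG ((H12Pic.NumTriv.lt_succ_iff' _ _).1 hG')) hL hF hd
    rw [← Nat.add_assoc, List.replicate_succ]
    show H28Int.D k _ F - H28Int.D k _ (CohB1.tensorMod L F) = 0
    rw [e, sub_self]

/-- Growth of order less than `j^m`. -/
def Negl (m : ℕ) (L G : X.Modules) : Prop :=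
  VolLimsup.vol m (fun j => hd k (CohB1.tensorMod G (CohB1.tensorPow L j)) 0) = 0

theorem negl_of_le {m : ℕ} {f g : ℕ → ℕ} (h : ∀ j, 1 ≤ j → f j ≤ g j) (hg : VolLimsup.vol m g = 0) :
    VolLimsup.vol m f = 0 := by
  refine le_antisymm (hg ▸ VolLimsup.vol_le_of_le 0 ?_) bot_le
  filter_upwards [eventually_ge_atTop 1] with j hj
  simpa using h j hj

theorem negl_iff {m : ℕ} {L G : X.Modules} :
    Negl k m L G ↔ VolLimsup.vol m (fun j => hd k (CohB1.tensorMod G (CohB1.tensorPow L j)) 0) = 0 := Iff.rfl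

theorem negl_of_bound {m : ℕ} {L G : X.Modules} (g : ℕ → ℕ)
    (h : ∀ j, 1 ≤ j → hd k (CohB1.tensorMod G (CohB1.tensorPow L j)) 0 ≤ g j)
    (hg : VolLimsup.vol m g = 0) : Negl k m L G :=
  negl_of_le h hg

theorem vol_zero_fun (m : ℕ) : VolLimsup.vol m (fun _ => 0) = 0 := by simp [VolLimsup.vol]

theorem vol_add_eq_zero {m : ℕ} {f g : ℕ → ℕ} (hf : VolLimsup.vol m f = 0) (hg : VolLimsup.vol m g = 0) :
    VolLimsup.vol m (fun j => f j + g j) = 0 := by
  have key : ∀ {u : ℕ → ℕ}, VolLimsup.vol m u = 0 →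
      Tendsto (fun j : ℕ => (u j : ℝ≥0∞) / (j : ℝ≥0∞) ^ m) atTop (nhds 0) := fun {u} hu =>
    tendsto_of_le_liminf_of_limsup_le bot_le (le_of_eq hu)
  have h := (key hf).add (key hg)
  rw [add_zero] at h
  refine Tendsto.limsup_eq (h.congr fun j => ?_)
  rw [← ENNReal.add_div]
  push_cast
  rfl

theorem negl_of_small {m : ℕ} {L G : X.Modules} (hL : PicF.IsInvertible L) (hG : Coh.IsCoh G)
    (hd : topologicalKrullDim (CohB1.support G) < (m : WithBot ℕ∞)) : Negl k m L G := by
  obtain ⟨C, hC⟩ := bdd_of_dim_lt k hG hd L hL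
  refine le_antisymm ((VolLimsup.vol_le_of_le (g := fun _ => 0) C (Eventually.of_forall fun j => ?_)).trans ?_) bot_le
  · simpa using hC j
  · simp [VolLimsup.vol]

theorem hd0_twist_le {S : ShortComplex X.Modules} (hS : S.ShortExact) (h₁ : Coh.IsCoh S.X₁) (h₂ : Coh.IsCoh S.X₂)
    (h₃ : Coh.IsCoh S.X₃) {N : X.Modules} (hN : PicF.IsInvertible N) :
    hd k (CohB1.tensorMod S.X₂ N) 0 ≤ hd k (CohB1.tensorMod S.X₁ N) 0 + hd k (CohB1.tensorMod S.X₃ N) 0 := by
  haveI := H28Int.isNoetherian k (X := X)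
  have h := VolGrowth.hd0_le_add k (H10Coh.Tw.shortExact_seq hS hN) (isCoh_tensor h₁ hN) (isCoh_tensor h₂ hN)
    (isCoh_tensor h₃ hN)
  exact h

/-- The integral step. -/
theorem negl_push {H : X.Modules} (hH : CohB1.IsAmple H) {L : X.Modules} (hL : PicF.IsInvertible L)
    (hnef : Kleiman.Nef k L) {m : ℕ}
    (h : ∀ (Z : Scheme.{u}) (i : Z ⟶ X) [IsClosedImmersion i], IsIntegral Z → topologicalKrullDim Z = (m : ℕ) →
      H28Int.D k (List.replicate m L) ((Scheme.Modules.pushforward i).obj (Coh.structureModule Z)) = 0)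
    {Z : Scheme.{u}} (ζ : Z ⟶ X) [IsClosedImmersion ζ] [IsIntegral Z]
    (hlow : ∀ M, Coh.IsCoh M → CohB1.support M ⊆ Set.range ζ → ζ (genericPoint Z) ∉ CohB1.support M → Negl k m L M) :
    Negl k m L ((Coh.push ζ).obj (Coh.structureModule Z)) := by
  haveI := H28Int.isNoetherian k (X := X)
  letI : Z.Over (Spec (CommRingCat.of k)) := ⟨ζ ≫ (X ↘ Spec (CommRingCat.of k))⟩
  haveI : IsProper (Z ↘ Spec (CommRingCat.of k)) := inferInstanceAs (IsProper (ζ ≫ _))
  haveI := H28Int.isNoetherian k (X := Z)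
  let P := (Coh.push ζ).obj (Coh.structureModule Z)
  have hP : Coh.IsCoh P := LeadDev.isCoh_push_structure ζ
  obtain ⟨e, he⟩ : ∃ e : ℕ, topologicalKrullDim Z = (e : WithBot ℕ∞) := by
    obtain ⟨e, he⟩ := H8Props.FieldDim.exists_nat_cdim (k := k) (Z ↘ Spec (CommRingCat.of k)) (genericPoint Z)
    exact ⟨e, (H28Int.Surface.cdim_genericPoint (X := Z)).symm.trans he⟩
  rcases lt_or_ge e m with hem | hem
  · refine negl_of_small k hL hP (lt_of_le_of_lt ((H28Int.dim_le_of_subset (H28Int.support_push_structure_eq ζ).le).trans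
      (le_of_eq ζ.isClosedEmbedding.isEmbedding.toHomeomorph.isHomeomorph.topologicalKrullDim_eq.symm)) ?_)
    rw [he]; exact_mod_cast hem
  -- an ample module with a section at the generic point of `Z`
  obtain ⟨n₀, h₀⟩ := VolGrowth.exists_gen_twist k hH H11Ample.isInvertible_structureModule (ζ (genericPoint Z))
  obtain ⟨g₀, hg₀⟩ := h₀ (n₀ + 1) (Nat.le_succ _)
  let B := CohB1.tensorPow H (n₀ + 1)
  have hB : CohB1.IsAmple B := (isAmple_tensorPow_iff hH.1 _ (Nat.succ_pos n₀)).1 hH
  obtain ⟨g, hg⟩ : ∃ g : Γ(B, ⊤), ζ (genericPoint Z) ∈ gen B g :=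
    ⟨(H10Coh.Tw.leftUnitIso B).hom.app ⊤ g₀, by rw [gen_iso]; exact hg₀⟩
  let φ := H25Euler.mulHom P (H11Tilde.homOfGlobal B g)
  have hiso : IsIso ((DerSch.stalkFunctor X (ζ (genericPoint Z))).map φ) := H25Euler.isIso_stalk_mulHom P _ hg
  haveI : Mono φ := Preadditive.mono_of_isZero_kernel φ
    (H28Int.isZero_of_mono_push ζ (kernel.ι φ) (H25Euler.notMem_support_kernel_cokernel φ hiso).1)
  let C := cokernel φ
  have hPB : Coh.IsCoh (CohB1.tensorMod P B) := isCoh_tensor hP hB.1
  have hC : Coh.IsCoh C := H10Coh.isCoh_cokernel φ hP.1 hPB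
  have hS : (ShortComplex.mk φ (cokernel.π φ) (cokernel.condition φ)).ShortExact :=
    ShortComplex.ShortExact.mk' (ShortComplex.exact_cokernel φ) inferInstance inferInstance
  obtain ⟨B', hB', ⟨eB⟩⟩ := H29RR.exists_inverse_comm hB.1
  let C' := CohB1.tensorMod C B'
  have hC's : CohB1.support C' ⊆ Set.range ζ := fun x hx =>
    (H28Int.support_push_structure_eq ζ).le (H25Euler.support_tensor_subset P B
      (LeadDev.support_subset_of_epi (cokernel.π φ) (H25Euler.support_tensor_subset C B' hx)))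
  have hC'η : ζ (genericPoint Z) ∉ CohB1.support C' := fun hx =>
    (H25Euler.notMem_support_kernel_cokernel φ hiso).2 (H25Euler.support_tensor_subset C B' hx)
  have hC'n := hlow C' (isCoh_tensor hC hB') hC's hC'η
  refine negl_of_bound k (fun j => hd k (CohB1.tensorMod C' (CohB1.tensorPow L j)) 0) (fun j hj => ?_) hC'n
  have hj' := isInvertible_tensorPow hL j
  have hN := isInvertible_tensor hB' hj'
  have h1 : hd k (CohB1.tensorMod (CohB1.tensorMod P B) (CohB1.tensorMod B' (CohB1.tensorPow L j))) 0 ≤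
      hd k (CohB1.tensorMod P (CohB1.tensorMod B' (CohB1.tensorPow L j))) 0 +
        hd k (CohB1.tensorMod C (CohB1.tensorMod B' (CohB1.tensorPow L j))) 0 :=
    hd0_twist_le (S := ShortComplex.mk φ (cokernel.π φ) (cokernel.condition φ)) k hS hP hPB hC hN
  -- on `Z` the twist by the inverse has no sections
  have hzero : hd k (CohB1.tensorMod P (CohB1.tensorMod B' (CohB1.tensorPow L j))) 0 = 0 := by
    by_contra hne
    obtain ⟨e₁⟩ := H10Coh.Tw.nonempty_push_tensor_iso ζ (Coh.structureModule Z) hN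
    rw [hd_congr e₁ 0, VolPush.hd0_push k ζ rfl, hd_congr (H10Coh.Tw.leftUnitIso _) 0] at hne
    have hLZ := H11Ample.isInvertible_pullback ζ hL
    have hBZ := isAmple_pullback_of_isAffineHom ζ hB
    obtain ⟨e₂⟩ := exists_iso_pullback_tensor ζ hB.1 hN
    obtain ⟨e₃⟩ := exists_iso_pullback_tensorPow ζ hL j
    have eE : CohB1.tensorMod ((Scheme.Modules.pullback ζ).obj B)
        ((Scheme.Modules.pullback ζ).obj (CohB1.tensorMod B' (CohB1.tensorPow L j))) ≅
        CohB1.tensorPow ((Scheme.Modules.pullback ζ).obj L) j :=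
      e₂.symm ≪≫ (Scheme.Modules.pullback ζ).mapIso ((H10Coh.Tw.assoc B B' _).symm ≪≫
        PicGrp.tensorModIso eB (Iso.refl _) ≪≫ H10Coh.Tw.leftUnitIso _) ≪≫ e₃
    have hpos := top_pos_of_eff k hBZ he hLZ (Kleiman.nef_pullback k ζ rfl hL hnef)
      (H11Ample.isInvertible_pullback ζ hN) (Nat.pos_of_ne_zero hne) eE
    have hl : ∀ A ∈ List.replicate e L, PicF.IsInvertible A := fun A hA => List.eq_of_mem_replicate hA ▸ hL
    have hQ : NefQ.Q k ((List.replicate e L).map (Scheme.Modules.pullback ζ).obj) (Coh.structureModule Z) = 0 := by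
      rw [NefQ.Q_quotMod_ker k ζ rfl hl (by rw [List.length_replicate]; exact he), NefQ.Q]
      obtain ⟨t, rfl⟩ : ∃ t, e = m + t := ⟨e - m, by omega⟩
      rw [D_vanish k hL h t _ (LeadDev.isCoh_push_structure _) (H12Pic.NefBC.support_quotMod_ker_le k ζ he), mul_zero]
    rw [NefQ.I, List.replicate_zero, List.append_nil, ← List.map_replicate, hQ] at hpos
    exact lt_irrefl _ hpos
  have e0 : CohB1.tensorMod (CohB1.tensorMod P B) (CohB1.tensorMod B' (CohB1.tensorPow L j)) ≅
      CohB1.tensorMod P (CohB1.tensorPow L j) :=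
    H10Coh.Tw.assoc P B _ ≪≫ PicGrp.tensorModIso (Iso.refl P) ((H10Coh.Tw.assoc B B' _).symm ≪≫
      PicGrp.tensorModIso eB (Iso.refl _) ≪≫ H10Coh.Tw.leftUnitIso _)
  rw [hd_congr e0 0, hzero, Nat.zero_add, hd_congr (H10Coh.Tw.assoc C B' _).symm 0] at h1
  exact h1

/-- **Numerical dimension bounds the growth**: if `(L^m · V) = 0` on all `m`-dimensional integral
subschemes, then `h⁰(F ⊗ L^j) = o(j^m)`. -/
theorem negl_of_vanish {H : X.Modules} (hH : CohB1.IsAmple H) {L : X.Modules} (hL : PicF.IsInvertible L)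
    (hnef : Kleiman.Nef k L) {m : ℕ}
    (h : ∀ (Z : Scheme.{u}) (i : Z ⟶ X) [IsClosedImmersion i], IsIntegral Z → topologicalKrullDim Z = (m : ℕ) →
      H28Int.D k (List.replicate m L) ((Scheme.Modules.pushforward i).obj (Coh.structureModule Z)) = 0)
    {F : X.Modules} (hF : Coh.IsCoh F) : Negl k m L F := by
  haveI := H28Int.isNoetherian k (X := X)
  refine (LeadDev.devissage_induction (CohB1.support F) (fun G => Coh.IsCoh G → Negl k m L G) ?_ ?_ ?_ ?_ F hF le_rfl) hF
  · rintro M N ⟨e⟩ hM hN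
    exact negl_of_bound k (fun j => hd k (CohB1.tensorMod M (CohB1.tensorPow L j)) 0)
      (fun j _ => (hd_congr (PicGrp.tensorModIso e (Iso.refl _)) 0).ge) (hM (H10Coh.isCoh_of_iso e.symm hN))
  · intro M hM _
    exact negl_of_bound k (fun _ => 0) (fun j _ =>
      (VolGrowth.hd0_of_isZero k (H12Pic.NumTriv.isZero_tensor hM _)).le) (vol_zero_fun m)
  · intro S hS h₁ h₂ h₃ hb₁ hb₃ _
    refine negl_of_bound k (fun j => hd k (CohB1.tensorMod S.X₁ (CohB1.tensorPow L j)) 0 +
      hd k (CohB1.tensorMod S.X₃ (CohB1.tensorPow L j)) 0) (fun j _ => ?_) ?_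
    · have hj := isInvertible_tensorPow hL j
      have h := hd0_twist_le k hS h₁ h₂ h₃ hj
      exact h
    · exact vol_add_eq_zero (hb₁ h₁) (hb₃ h₃)
  · intro Z ζ _ _ _ hlow I ι _ _ _
    have hbig := negl_push k hH hL hnef h ζ (fun M hM hs hn => hlow M hM hs hn hM)
    refine negl_of_bound k (fun j => hd k (CohB1.tensorMod ((Coh.push ζ).obj (Coh.structureModule Z)) (CohB1.tensorPow L j)) 0)
      (fun j _ => ?_) hbig
    obtain ⟨f, hf⟩ := H12Pic.NumTriv.exists_mono_tensor ((Coh.push ζ).map ι) (isInvertible_tensorPow hL j)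
    haveI := hf
    exact VolGrowth.hd0_le_of_mono k f (isCoh_tensor (LeadDev.isCoh_push_structure ζ) (isInvertible_tensorPow hL j))

end Groth.Agent.H11Big
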