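import Groth.Agent.H11Big.NumDim
import Groth.Agent.H11Ample.ToPn
import Groth.Agent.H11Ample.Converse
import Groth.Agent.H12Pic.Gen.Push
import Groth.Agent.H27Weil.Geometry

/-!
# Numerical dimension and growth for semiample modules
-/

set_option autoImplicit false
set_option linter.style.haveILetI false
set_option linter.unusedSectionVars false

universe u

open CategoryTheory CategoryTheory.Limits AlgebraicGeometry TopologicalSpace Filter
open Groth.Agent.H11Ample Groth.Agent.H25Index
open Groth.Agent.H22Alg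
open scoped ENNReal

noncomputable section

namespace Groth.Agent.H11Big

variable (k : Type u) [Field k] {X : Scheme.{u}} [X.Over (Spec (CommRingCat.of k))]
  [IsProper (X ↘ Spec (CommRingCat.of k))]

theorem D_replicate_congr {A B : X.Modules} (hA : PicF.IsInvertible A) (hB : PicF.IsInvertible B) (e : A ≅ B) :
    ∀ (m : ℕ) (F : X.Modules), H28Int.D k (List.replicate m A) F = H28Int.D k (List.replicate m B) F
  | 0, _ => rfl
  | m + 1, F => by
    have hl : ∀ C ∈ List.replicate m B, PicF.IsInvertible C := fun C hC => List.eq_of_mem_replicate hC ▸ hB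
    show H28Int.D k _ F - H28Int.D k _ (CohB1.tensorMod A F) = H28Int.D k _ F - H28Int.D k _ (CohB1.tensorMod B F)
    rw [D_replicate_congr hA hB e m F, D_replicate_congr hA hB e m (CohB1.tensorMod A F),
      (H28Int.isAddFn_D k _ hl).congr (PicGrp.tensorModIso e (Iso.refl F))]

/-- A semiample module is nef. -/
theorem nef_of_semiample {H L : X.Modules} (hH : CohB1.IsAmple H) (hL : PicF.IsInvertible L) {ν : ℕ} (hν : 0 < ν)
    (hgg : Curv2.IsGloballyGenerated (CohB1.tensorPow L ν)) : Kleiman.Nef k L := by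
  intro Z i _ _ hd
  haveI := H28Int.isNoetherian k (X := X)
  have h := H12Pic.Gen.nef_of_gg k hH (isInvertible_tensorPow hL ν) hgg Z i hd
  rw [NefQ.Q_cons_pow k (l := []) (by simp) hL (LeadDev.isCoh_push_structure _)
    (by simpa using H12Pic.NefBC.support_quotMod_ker_le k i hd) ν] at h
  exact nonneg_of_mul_nonneg_right (by linarith [h] : 0 ≤ (ν : ℤ) * NefQ.Q k [L] (ClSub.quotMod i.ker)) (by exact_mod_cast hν)

include k in
/-- Finitely many sections of a globally generated module without common zero. -/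
theorem exists_fin_sections [IsIntegral X] {M : X.Modules} (hM : PicF.IsInvertible M)
    (hgg : Curv2.IsGloballyGenerated M) : ∃ (n : ℕ) (v : Fin (n + 1) → Γ(M, ⊤)), ∀ x, ∃ i, x ∈ gen M (v i) := by
  classical
  haveI := H28Int.isNoetherian k (X := X)
  choose g hg using exists_mem_gen_of_isGloballyGenerated hM hgg
  obtain ⟨t, ht⟩ := isCompact_univ.elim_finite_subcover (fun x : X => (gen M (g x) : Set X))
    (fun x => (gen M (g x)).isOpen) (fun x _ => Set.mem_iUnion.2 ⟨x, hg x⟩)
  let v : Fin (t.card + 1) → Γ(M, ⊤) := Fin.cons 0 fun i => g (t.equivFin.symm i)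
  refine ⟨t.card, v, fun x => ?_⟩
  obtain ⟨y, hy, hxy⟩ := Set.mem_iUnion₂.1 (ht (Set.mem_univ x))
  refine ⟨(t.equivFin ⟨y, hy⟩).succ, ?_⟩
  simpa [v] using hxy

/-- **Semiample modules**: without growth of order `μ^m` all `m`-fold intersection numbers vanish. -/
theorem D_eq_zero_of_semiample [IsIntegral X] {L : X.Modules} (hL : PicF.IsInvertible L) {ν : ℕ} (hν : 0 < ν)
    (hgg : Curv2.IsGloballyGenerated (CohB1.tensorPow L ν)) {m : ℕ}
    (hno : ¬ ∃ ν a : ℕ, 0 < ν ∧ 0 < a ∧ ∀ μ : ℕ, 1 ≤ μ → μ ^ m ≤ a * hd k (CohB1.tensorPow L (ν * μ)) 0)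
    {Z : Scheme.{u}} (i : Z ⟶ X) [IsClosedImmersion i] [IsIntegral Z] (hd : topologicalKrullDim Z = (m : ℕ)) :
    H28Int.D k (List.replicate m L) ((Coh.push i).obj (Coh.structureModule Z)) = 0 := by
  haveI := H28Int.isNoetherian k (X := X)
  letI : Z.Over (Spec (CommRingCat.of k)) := ⟨i ≫ (X ↘ Spec (CommRingCat.of k))⟩
  haveI : IsProper (Z ↘ Spec (CommRingCat.of k)) := inferInstanceAs (IsProper (i ≫ _))
  haveI := H28Int.isNoetherian k (X := Z)
  let M := CohB1.tensorPow L ν
  have hM : PicF.IsInvertible M := isInvertible_tensorPow hL ν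
  obtain ⟨n, v, hv⟩ := exists_fin_sections k hM hgg
  obtain ⟨ψ, hψ, ⟨eψ⟩, -⟩ := exists_toPn (X ↘ Spec (CommRingCat.of k)) hM v hv
  letI : (CohB1.ProjSpace n k).Over (Spec (CommRingCat.of k)) := ⟨CohB1.ProjSpace.toSpec n k⟩
  haveI : IsProper (CohB1.ProjSpace n k ↘ Spec (CommRingCat.of k)) := H27Weil.isProper_toSpec n k
  let O1 := Twist.twistProjSpace n k 1
  have hO1a : CohB1.IsAmple O1 := isAmple_twistProjSpace n k
  -- the image of `X`
  let η := ψ (genericPoint X)
  have hker : ψ.ker = Scheme.IdealSheafData.vanishingIdeal (DevLength.cl η) := by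
    rw [H17.ker_eq_vanishingIdeal ψ]
    congr 1
    exact Closeds.ext (IntPullback.closure_range ψ)
  haveI : IsIntegral ψ.image := by
    show IsIntegral ψ.ker.subscheme
    rw [hker]
    exact isIntegral_vanishingIdeal_closure η
  letI : ψ.image.Over (Spec (CommRingCat.of k)) := ⟨ψ.imageι ≫ CohB1.ProjSpace.toSpec n k⟩
  haveI : IsProper (ψ.image ↘ Spec (CommRingCat.of k)) :=
    inferInstanceAs (IsProper (ψ.imageι ≫ CohB1.ProjSpace.toSpec n k))
  have hsupp : (ψ.ker.support : Set (CohB1.ProjSpace n k)) = closure {η} := by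
    rw [hker, Scheme.IdealSheafData.coe_support_vanishingIdeal]; rfl
  have hrange : Set.range ψ.imageι = closure {η} := (ψ.ker.range_subschemeι).trans hsupp
  have hgenY : ψ.imageι (genericPoint ψ.image) = η := by
    have h1 : IsGenericPoint (ψ.imageι (genericPoint ψ.image)) (closure (ψ.imageι '' (Set.univ : Set ψ.image))) :=
      (genericPoint_spec ψ.image).image ψ.imageι.continuous
    rw [Set.image_univ, hrange, closure_closure] at h1
    exact h1.eq isGenericPoint_closure
  have hdom : ψ.toImage (genericPoint X) = genericPoint ψ.image := by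
    refine ψ.imageι.isClosedEmbedding.injective ?_
    rw [hgenY, ← Scheme.Hom.comp_apply, Scheme.Hom.toImage_imageι]
  obtain ⟨e, he⟩ : ∃ e : ℕ, topologicalKrullDim ψ.image = (e : WithBot ℕ∞) := by
    obtain ⟨e, he⟩ := H8Props.FieldDim.exists_nat_cdim (k := k) (ψ.image ↘ Spec (CommRingCat.of k)) (genericPoint ψ.image)
    exact ⟨e, (H28Int.Surface.cdim_genericPoint (X := ψ.image)).symm.trans he⟩
  -- the sections of `O(j)` on the image are sections of `L^(νj)` on `X`
  have hem : e < m := by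
    by_contra hem
    refine hno ?_
    have hOY : CohB1.IsAmple ((Scheme.Modules.pullback ψ.imageι).obj O1) := isAmple_pullback_of_isAffineHom _ hO1a
    obtain ⟨ν', K, hν', hK0, hK⟩ := growth_of_eff k hOY he (L := (Scheme.Modules.pullback ψ.imageι).obj O1)
      hOY (H11Ample.isInvertible_structureModule (X := ψ.image)) (VolBig.hd0_structure_pos k) one_pos
      (H10Coh.Tw.rightUnitIso _ ≪≫ (H10Coh.Tw.leftUnitIso _).symm)
    refine ⟨ν * ν', K, Nat.mul_pos hν hν', hK0, fun μ hμ => ?_⟩
    refine (Nat.pow_le_pow_right hμ (not_lt.1 hem)).trans ((hK μ hμ).trans (Nat.mul_le_mul_left _ ?_))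
    haveI : IsProper ψ.toImage := by
      haveI : IsProper (ψ.toImage ≫ (ψ.image ↘ Spec (CommRingCat.of k))) := by
        show IsProper (ψ.toImage ≫ ψ.imageι ≫ CohB1.ProjSpace.toSpec n k)
        rw [Scheme.Hom.toImage_imageι_assoc, hψ]
        infer_instance
      exact IsProper.of_comp ψ.toImage (ψ.image ↘ Spec (CommRingCat.of k))
    have hf : ψ.toImage ≫ (ψ.image ↘ Spec (CommRingCat.of k)) = X ↘ Spec (CommRingCat.of k) := by
      show ψ.toImage ≫ ψ.imageι ≫ CohB1.ProjSpace.toSpec n k = _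
      rw [Scheme.Hom.toImage_imageι_assoc, hψ]
    have hj := isInvertible_tensorPow (isInvertible_pullback ψ.imageι hO1a.1) (ν' * μ)
    haveI := mono_unitToPush ψ.toImage hdom
    haveI := H28Int.isNoetherian k (X := ψ.image)
    have hP : Coh.IsCoh ((Coh.push ψ.toImage).obj (Coh.structureModule X)) :=
      H24GE.isCoh_pushforward ψ.toImage (H10Coh.isCoh_structureModule' X)
    obtain ⟨f, hf'⟩ := H12Pic.NumTriv.exists_mono_tensor (ClSub.unitToPush ψ.toImage) hj
    haveI := hf'
    refine (hd_congr (H10Coh.Tw.leftUnitIso _) 0).ge.trans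
      ((VolGrowth.hd0_le_of_mono k f (isCoh_tensor hP hj)).trans (le_of_eq ?_))
    obtain ⟨e₁⟩ := H10Coh.Tw.nonempty_push_tensor_iso ψ.toImage (Coh.structureModule X) hj
    obtain ⟨e₂⟩ := exists_iso_pullback_tensorPow ψ.toImage (isInvertible_pullback ψ.imageι hO1a.1) (ν' * μ)
    have e₃ : (Scheme.Modules.pullback ψ.toImage).obj ((Scheme.Modules.pullback ψ.imageι).obj O1) ≅ M :=
      (Scheme.Modules.pullbackComp ψ.toImage ψ.imageι).app O1 ≪≫
        eqToIso (by rw [Scheme.Hom.toImage_imageι]) ≪≫ eψ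
    obtain ⟨e₄⟩ := NakaiSemi.nonempty_tensorPow_congr e₃ (ν' * μ)
    obtain ⟨e₅⟩ := NakaiGen.nonempty_tensorPow_mul L ν (ν' * μ)
    rw [hd_congr e₁ 0, VolPush.hd0_push k ψ.toImage hf,
      hd_congr (H10Coh.Tw.leftUnitIso _ ≪≫ e₂ ≪≫ e₄ ≪≫ e₅ ≪≫ eqToIso (congrArg (CohB1.tensorPow L) (Nat.mul_assoc ν ν' μ).symm)) 0]
  -- so the `m`-fold intersection numbers of `M` vanish
  have hl : ∀ A ∈ List.replicate m L, PicF.IsInvertible A := fun A hA => List.eq_of_mem_replicate hA ▸ hL
  have hlO : ∀ A ∈ List.replicate m O1, PicF.IsInvertible A := fun A hA => List.eq_of_mem_replicate hA ▸ hO1a.1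
  have hOZ : Coh.IsCoh (Coh.structureModule Z) := H10Coh.isCoh_structureModule' Z
  let LZ := (Scheme.Modules.pullback i).obj L
  have hLZ : PicF.IsInvertible LZ := isInvertible_pullback i hL
  have hf : (i ≫ ψ) ≫ (CohB1.ProjSpace n k ↘ Spec (CommRingCat.of k)) = Z ↘ Spec (CommRingCat.of k) := by
    rw [Category.assoc]; exact congrArg (i ≫ ·) hψ
  have h0 := IntPullback.D_pullback_subscheme k (𝟙 Z) (i ≫ ψ) hf (List.replicate m O1) hlO
    (by rw [List.length_replicate]; exact hd)
  haveI := H28Int.isNoetherian k (X := CohB1.ProjSpace n k)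
  have hsmall : H28Int.D k (List.replicate m O1) (ClSub.quotMod (𝟙 Z ≫ i ≫ ψ).ker) = 0 := by
    refine H28Int.D_eq_zero k _ hlO _ (LeadDev.isCoh_push_structure _) ?_
    rw [List.length_replicate]
    refine lt_of_le_of_lt (le_trans (H28Int.dim_le_of_subset (B := Set.range ψ.imageι) ?_)
      (le_of_eq (ψ.imageι.isClosedEmbedding.isEmbedding.toHomeomorph.isHomeomorph.topologicalKrullDim_eq.symm.trans he)))
      (by exact_mod_cast hem)
    rw [IntPullback.quotMod_ker (𝟙 Z ≫ i ≫ ψ), hrange]
    refine (H25K.support_redMod_subset _).trans (closure_minimal ?_ isClosed_closure)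
    rintro _ rfl
    rw [← IntPullback.closure_range ψ]
    exact subset_closure ⟨i (genericPoint Z), by simp⟩
  rw [hsmall, mul_zero, List.map_replicate, Nakai.D_quotMod_id k (fun A hA => List.eq_of_mem_replicate hA ▸
      isInvertible_pullback _ hO1a.1) (by rw [List.length_replicate]; exact hd)] at h0
  have eZ : (Scheme.Modules.pullback (i ≫ ψ)).obj O1 ≅ CohB1.tensorMod (CohB1.tensorPow LZ ν) (CohB1.tensorPow LZ 0) :=
    ((Scheme.Modules.pullbackComp i ψ).app O1).symm ≪≫ (Scheme.Modules.pullback i).mapIso eψ ≪≫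
      (exists_iso_pullback_tensorPow i hL ν).some ≪≫ (H10Coh.Tw.rightUnitIso _).symm
  rw [D_replicate_congr k (isInvertible_pullback _ hO1a.1)
    (isInvertible_tensor (isInvertible_tensorPow hLZ ν) (isInvertible_tensorPow hLZ 0)) eZ m] at h0
  have hex := NefQ.expand k hLZ hLZ ν 0 hOZ m 0 0 (by simpa using dim_support_structure hd.le)
  simp only [List.replicate_zero, List.append_nil, zero_add, NefQ.Q, List.length_replicate, h0, mul_zero] at hex
  rw [Finset.sum_eq_single m (fun s hs hne => ?_) (fun h => absurd (Finset.mem_range.2 (Nat.lt_succ_self m)) h)] at hex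
  · simp only [Nat.choose_self, Nat.sub_self, pow_zero, mul_one, Nat.cast_one, one_mul, NefQ.I, List.replicate_zero,
      List.append_nil, NefQ.Q, List.length_replicate] at hex
    rw [H12Pic.Gen.D_push k i rfl _ hl _ hOZ, List.map_replicate]
    have hνm : (ν : ℤ) ^ m * (-1 : ℤ) ^ m ≠ 0 := mul_ne_zero (pow_ne_zero _ (by exact_mod_cast hν.ne')) (by simp)
    have := hex.symm
    rw [← mul_assoc] at this
    exact (mul_eq_zero.1 this).resolve_left hνm
  · have : m - s ≠ 0 := by have := Finset.mem_range.1 hs; omega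
    simp [this]

end Groth.Agent.H11Big
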